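import Groth.Agent.Lib.CAlgLow.TorNil
import Mathlib.RingTheory.Flat.Basic
import Mathlib.LinearAlgebra.TensorProduct.Quotient
import Mathlib.LinearAlgebra.TensorProduct.RightExactness

/-!
# Flat lifts of an ideal along a square-zero extension, affine case
-/

set_option autoImplicit false

universe u

open scoped TensorProduct

namespace Groth.Agent.SqZeroEmb3

variable {A' : Type u} [CommRing A'] {J : Ideal A'} {B' : Type u} [CommRing B'] [Algebra A' B']

/-- Multiplication `B' ⊗ J → B'`, linear over `B'`. -/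
noncomputable def mul (J : Ideal A') (B' : Type u) [CommRing B'] [Algebra A' B'] : B' ⊗[A'] ↥J →ₗ[B'] B' :=
  (TensorProduct.AlgebraTensorModule.rid A' B' B').toLinearMap ∘ₗ
    TensorProduct.AlgebraTensorModule.lTensor B' B' J.subtype

theorem mul_tmul (b : B') (j : J) : mul J B' (b ⊗ₜ j) = b * algebraMap A' B' j := by
  simp [mul, Algebra.smul_def, mul_comm]

theorem mul_eq (z : B' ⊗[A'] ↥J) :
    mul J B' z = TensorProduct.rid A' B' (LinearMap.lTensor B' (Submodule.subtype J) z) := by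
  induction z with
  | zero => simp
  | add a b ha hb => simp only [map_add, ha, hb]
  | tmul b j => simp [mul]

theorem range_mul : LinearMap.range (mul J B') = J.map (algebraMap A' B') := by
  refine le_antisymm ?_ (Ideal.span_le.2 ?_)
  · rintro _ ⟨z, rfl⟩
    induction z with
    | zero => simp
    | add a b ha hb => rw [map_add]; exact add_mem ha hb
    | tmul b j => rw [mul_tmul]; exact Ideal.mul_mem_left _ _ (Ideal.mem_map_of_mem _ j.2)
  · rintro _ ⟨j, hj, rfl⟩
    exact ⟨1 ⊗ₜ ⟨j, hj⟩, by rw [mul_tmul, one_mul]⟩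

variable (I : Ideal (B' ⧸ J.map (algebraMap A' B')))

/-- Projection to the closed subscheme. -/
noncomputable def proj : B' →ₗ[B'] (B' ⧸ J.map (algebraMap A' B')) ⧸ I :=
  (IsScalarTower.toAlgHom B' B' ((B' ⧸ J.map (algebraMap A' B')) ⧸ I)).toLinearMap

theorem proj_apply (b : B') : proj I b = Ideal.Quotient.mk I (Ideal.Quotient.mk _ b) := rfl

theorem proj_surjective : Function.Surjective (proj I) := fun y => by
  obtain ⟨y, rfl⟩ := Ideal.Quotient.mk_surjective y
  obtain ⟨b, rfl⟩ := Ideal.Quotient.mk_surjective y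
  exact ⟨b, rfl⟩

/-- Reduction of `B' ⊗ J`. -/
noncomputable def red : B' ⊗[A'] ↥J →ₗ[B'] ((B' ⧸ J.map (algebraMap A' B')) ⧸ I) ⊗[A'] ↥J :=
  TensorProduct.AlgebraTensorModule.rTensor A' ↥J (proj I)

theorem red_eq (z : B' ⊗[A'] ↥J) :
    red I z = LinearMap.rTensor ↥J
      (IsScalarTower.toAlgHom A' B' ((B' ⧸ J.map (algebraMap A' B')) ⧸ I)).toLinearMap z := by
  induction z with
  | zero => simp
  | add a b ha hb => simp only [map_add, ha, hb]
  | tmul b j => rfl

theorem red_surjective : Function.Surjective (red I) := fun y => by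
  obtain ⟨z, hz⟩ := LinearMap.rTensor_surjective ↥J (g := (proj I).restrictScalars A') (proj_surjective I) y
  exact ⟨z, hz⟩

variable {I}

/-- Elements over the special ideal times `J`. -/
theorem exists_ker (z : B' ⊗[A'] ↥J) (hz : red I z = 0) :
    ∃ w : (I.comap (Ideal.Quotient.mk (J.map (algebraMap A' B'))) : Ideal B') ⊗[A'] ↥J,
      LinearMap.rTensor ↥J ((Submodule.subtype (I.comap (Ideal.Quotient.mk (J.map (algebraMap A' B'))))).restrictScalars A') w = z := by
  refine (rTensor_exact (R := A') ↥J (f := (Submodule.subtype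
    (I.comap (Ideal.Quotient.mk (J.map (algebraMap A' B'))))).restrictScalars A') (g := (proj I).restrictScalars A')
    ?_ (proj_surjective I) z).1 hz
  intro b
  constructor
  · intro hb
    exact ⟨⟨b, Ideal.mem_comap.2 (Ideal.Quotient.eq_zero_iff_mem.1 hb)⟩, rfl⟩
  · rintro ⟨⟨b, hb⟩, rfl⟩
    exact Ideal.Quotient.eq_zero_iff_mem.2 hb

theorem red_of_mul_mem {I' : Ideal B'} [Module.Flat A' (B' ⧸ I')]
    (hI' : I'.map (Ideal.Quotient.mk (J.map (algebraMap A' B'))) = I) {z : B' ⊗[A'] ↥J} (hz : mul J B' z ∈ I') :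
    red I z = 0 := by
  let q' : B' →ₗ[A'] B' ⧸ I' := (Ideal.Quotient.mkₐ A' I').toLinearMap
  have key : ∀ z, TensorProduct.rid A' (B' ⧸ I') ((J.subtype.lTensor (B' ⧸ I')) (q'.rTensor ↥J z)) =
      Ideal.Quotient.mk I' (mul J B' z) := by
    intro z
    induction z with
    | zero => simp
    | add a b ha hb => simp only [map_add, ha, hb]
    | tmul b j =>
      simp only [LinearMap.rTensor_tmul, LinearMap.lTensor_tmul, TensorProduct.rid_tmul, mul_tmul, Submodule.subtype_apply,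
        map_mul, Algebra.smul_def]
      exact mul_comm _ _
  have h0 : q'.rTensor ↥J z = 0 := by
    refine Module.Flat.lTensor_preserves_injective_linearMap (M := B' ⧸ I') J.subtype J.injective_subtype ?_
    apply (TensorProduct.rid A' (B' ⧸ I')).injective
    rw [key, map_zero, map_zero, Ideal.Quotient.eq_zero_iff_mem]
    exact hz
  have hle : I' ≤ RingHom.ker ((Ideal.Quotient.mk I).comp (Ideal.Quotient.mk (J.map (algebraMap A' B')))) := fun a ha =>
    Ideal.Quotient.eq_zero_iff_mem.2 (hI' ▸ Ideal.mem_map_of_mem _ ha)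
  let s : B' ⧸ I' →ₗ[A'] (B' ⧸ J.map (algebraMap A' B')) ⧸ I :=
    (Ideal.Quotient.liftₐ I' (IsScalarTower.toAlgHom A' B' _) fun a ha => hle ha).toLinearMap
  have e : ∀ z, red I z = s.rTensor ↥J (q'.rTensor ↥J z) := by
    intro z
    induction z with
    | zero => simp
    | add a b ha hb => simp only [map_add, ha, hb]
    | tmul b j => rfl
  rw [e, h0, map_zero]

/-- Two flat lifts differ by a unique homomorphism. -/
theorem existsUnique_hom (I' I'' : Ideal B') [Module.Flat A' (B' ⧸ I')]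
    (hI' : I'.map (Ideal.Quotient.mk (J.map (algebraMap A' B'))) = I)
    (hI'' : I''.map (Ideal.Quotient.mk (J.map (algebraMap A' B'))) = I) [Module.Flat A' (B' ⧸ I'')] :
    ∃! φ : ↥I →ₗ[B'] (((B' ⧸ J.map (algebraMap A' B')) ⧸ I) ⊗[A'] ↥J),
      ∀ (x : (B' ⧸ J.map (algebraMap A' B'))) (hx : x ∈ I) (x' x'' : B'), x' ∈ I' → x'' ∈ I'' →
          Ideal.Quotient.mk (J.map (algebraMap A' B')) x' = x → Ideal.Quotient.mk (J.map (algebraMap A' B')) x'' = x →
          ∀ z : B' ⊗[A'] ↥J, mul J B' z = x'' - x' → red I z = φ ⟨x, hx⟩ := by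
  have hs := Ideal.Quotient.mk_surjective (I := J.map (algebraMap A' B'))
  have hex : ∀ x : I, ∃ a b : B', ∃ z : B' ⊗[A'] ↥J, a ∈ I' ∧ b ∈ I'' ∧
      Ideal.Quotient.mk (J.map (algebraMap A' B')) a = x.1 ∧ Ideal.Quotient.mk (J.map (algebraMap A' B')) b = x.1 ∧
      mul J B' z = b - a := fun x => by
    obtain ⟨a, ha, ea⟩ := (Ideal.mem_map_iff_of_surjective _ hs).1 (hI'.ge x.2)
    obtain ⟨b, hb, eb⟩ := (Ideal.mem_map_iff_of_surjective _ hs).1 (hI''.ge x.2)
    obtain ⟨z, hz⟩ : b - a ∈ LinearMap.range (mul J B') := by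
      rw [range_mul]
      exact Ideal.Quotient.eq.1 (eb.trans ea.symm)
    exact ⟨a, b, z, ha, hb, ea, eb, hz⟩
  choose a b z ha hb ea eb hz using hex
  have wd : ∀ (x : I) (x' x'' : B') (w : B' ⊗[A'] ↥J), x' ∈ I' → x'' ∈ I'' →
      Ideal.Quotient.mk (J.map (algebraMap A' B')) x' = x.1 → Ideal.Quotient.mk (J.map (algebraMap A' B')) x'' = x.1 →
      mul J B' w = x'' - x' → red I w = red I (z x) := by
    intro x x' x'' w h' h'' e' e'' hw
    obtain ⟨u, hu⟩ : x'' - b x ∈ LinearMap.range (mul J B') := by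
      rw [range_mul]
      exact Ideal.Quotient.eq.1 (e''.trans (eb x).symm)
    have h1 : red I u = 0 := red_of_mul_mem hI'' (hu ▸ sub_mem h'' (hb x))
    have h2 : red I (w - z x - u) = 0 := red_of_mul_mem hI' (by
      rw [map_sub, map_sub, hw, hz, hu, show x'' - x' - (b x - a x) - (x'' - b x) = a x - x' by ring]
      exact sub_mem (ha x) h')
    rwa [map_sub, map_sub, h1, sub_zero, sub_eq_zero] at h2
  let φ : ↥I →ₗ[B'] (((B' ⧸ J.map (algebraMap A' B')) ⧸ I) ⊗[A'] ↥J) :=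
    { toFun := fun x => red I (z x)
      map_add' := fun x y => by
        rw [← map_add]
        refine (wd (x + y) (a x + a y) (b x + b y) _ (add_mem (ha x) (ha y)) (add_mem (hb x) (hb y)) ?_ ?_ ?_).symm
        · rw [map_add, ea, ea]; rfl
        · rw [map_add, eb, eb]; rfl
        · rw [map_add, hz, hz]; ring
      map_smul' := fun r x => by
        rw [RingHom.id_apply, ← map_smul]
        refine (wd (r • x) (r * a x) (r * b x) _ (I'.mul_mem_left _ (ha x)) (I''.mul_mem_left _ (hb x)) ?_ ?_ ?_).symm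
        · rw [map_mul, ea]; rfl
        · rw [map_mul, eb]; rfl
        · rw [map_smul, hz, smul_eq_mul]; ring }
  refine ⟨φ, fun x hx x' x'' h' h'' e' e'' w hw => wd ⟨x, hx⟩ x' x'' w h' h'' e' e'' hw, fun ψ hψ => ?_⟩
  ext ⟨x, hx⟩
  exact (hψ x hx _ _ (ha ⟨x, hx⟩) (hb ⟨x, hx⟩) (ea ⟨x, hx⟩) (eb ⟨x, hx⟩) _ (hz ⟨x, hx⟩)).symm

/-- The tensor product with the reduced base is the special subscheme. -/
theorem flat_red (_hJ : J * J = ⊥) {T : Ideal B'} (hT : T.map (Ideal.Quotient.mk (J.map (algebraMap A' B'))) = I)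
    [Module.Flat (A' ⧸ J) ((B' ⧸ J.map (algebraMap A' B')) ⧸ I)] :
    Module.Flat (A' ⧸ J) ((A' ⧸ J) ⊗[A'] (B' ⧸ T)) := by
  have hle : T ≤ RingHom.ker ((Ideal.Quotient.mk I).comp (Ideal.Quotient.mk (J.map (algebraMap A' B')))) := fun a ha =>
    Ideal.Quotient.eq_zero_iff_mem.2 (hT ▸ Ideal.mem_map_of_mem _ ha)
  let s : B' ⧸ T →ₗ[A'] (B' ⧸ J.map (algebraMap A' B')) ⧸ I :=
    (Ideal.Quotient.liftₐ T (IsScalarTower.toAlgHom A' B' _) fun a ha => hle ha).toLinearMap
  have hs : Function.Surjective s := fun y => by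
    obtain ⟨b, rfl⟩ := proj_surjective I y
    exact ⟨Ideal.Quotient.mk T b, rfl⟩
  have hk : LinearMap.ker s = J • (⊤ : Submodule A' (B' ⧸ T)) := by
    refine le_antisymm (fun y hy => ?_) (Submodule.smul_le.2 fun j hj y _ => ?_)
    · obtain ⟨b, rfl⟩ := Ideal.Quotient.mk_surjective y
      have hb : Ideal.Quotient.mk (J.map (algebraMap A' B')) b ∈ I := Ideal.Quotient.eq_zero_iff_mem.1 hy
      obtain ⟨t, ht, et⟩ := (Ideal.mem_map_iff_of_surjective _ Ideal.Quotient.mk_surjective).1 (hT.ge hb)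
      rw [Ideal.smul_top_eq_map, Submodule.restrictScalars_mem, ← Ideal.Quotient.mk_comp_algebraMap, ← Ideal.map_map]
      have hm := Ideal.mem_map_of_mem (Ideal.Quotient.mk T) (Ideal.Quotient.eq.1 et.symm)
      rwa [map_sub, Ideal.Quotient.eq_zero_iff_mem.2 ht, sub_zero] at hm
    · obtain ⟨y, rfl⟩ := Ideal.Quotient.mk_surjective y
      show s (j • _) = 0
      rw [Algebra.smul_def, show algebraMap A' (B' ⧸ T) j * Ideal.Quotient.mk T y =
        Ideal.Quotient.mk T (algebraMap A' B' j * y) by rw [map_mul]; rfl]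
      show Ideal.Quotient.mk I (Ideal.Quotient.mk (J.map (algebraMap A' B')) (algebraMap A' B' j * y)) = 0
      rw [map_mul, Ideal.Quotient.eq_zero_iff_mem.2 (Ideal.mem_map_of_mem _ hj), zero_mul, map_zero]
  let e : ((A' ⧸ J) ⊗[A'] (B' ⧸ T)) ≃ₗ[A'] (B' ⧸ J.map (algebraMap A' B')) ⧸ I :=
    (TensorProduct.quotTensorEquivQuotSMul (B' ⧸ T) J).trans
      ((Submodule.quotEquivOfEq _ _ hk.symm).trans (LinearMap.quotKerEquivOfSurjective s hs))
  exact Module.Flat.of_linearEquiv (e.extendScalarsOfSurjective Ideal.Quotient.mk_surjective)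

theorem injective_rTensor (hJ : J * J = ⊥) {T : Ideal B'}
    (hT : T.map (Ideal.Quotient.mk (J.map (algebraMap A' B'))) = I)
    (hzero : ∀ z : B' ⊗[A'] ↥J, mul J B' z ∈ T → red I z = 0) :
    Function.Injective (J.subtype.rTensor (B' ⧸ T)) := by
  let q' : B' →ₗ[A'] B' ⧸ T := (Ideal.Quotient.mkₐ A' T).toLinearMap
  have key : ∀ z, TensorProduct.lid A' (B' ⧸ T) ((J.subtype.rTensor (B' ⧸ T))
      (TensorProduct.comm A' (B' ⧸ T) ↥J (q'.rTensor ↥J z))) = Ideal.Quotient.mk T (mul J B' z) := by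
    intro z
    induction z with
    | zero => simp
    | add a b ha hb => simp only [map_add, ha, hb]
    | tmul b j =>
      simp only [LinearMap.rTensor_tmul, TensorProduct.comm_tmul, TensorProduct.lid_tmul, mul_tmul,
        Submodule.subtype_apply, map_mul, Algebra.smul_def]
      exact mul_comm _ _
  rw [injective_iff_map_eq_zero]
  intro v hv
  obtain ⟨z, hz⟩ := LinearMap.rTensor_surjective ↥J (g := q') Ideal.Quotient.mk_surjective
    ((TensorProduct.comm A' (B' ⧸ T) ↥J).symm v)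
  have hv' : v = TensorProduct.comm A' (B' ⧸ T) ↥J (q'.rTensor ↥J z) := by rw [hz, LinearEquiv.apply_symm_apply]
  have hmem : mul J B' z ∈ T := by
    rw [← Ideal.Quotient.eq_zero_iff_mem, ← key, ← hv', hv, map_zero]
  obtain ⟨w, rfl⟩ := exists_ker z (hzero z hmem)
  have : ∀ w, q'.rTensor ↥J (LinearMap.rTensor ↥J ((Submodule.subtype
      (I.comap (Ideal.Quotient.mk (J.map (algebraMap A' B'))))).restrictScalars A') w) = 0 := by
    intro w
    induction w with
    | zero => simp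
    | add a b ha hb => simp only [map_add, ha, hb, add_zero]
    | tmul k j =>
      obtain ⟨k, hk⟩ := k
      obtain ⟨t, ht, et⟩ := (Ideal.mem_map_iff_of_surjective _ Ideal.Quotient.mk_surjective).1
        (hT.ge (Ideal.mem_comap.1 hk))
      have hd : k - t ∈ LinearMap.range (mul J B') := by rw [range_mul]; exact Ideal.Quotient.eq.1 et.symm
      obtain ⟨u, hu⟩ := hd
      show q' k ⊗ₜ[A'] j = 0
      have hk' : q' k = Ideal.Quotient.mk T (mul J B' u) := by
        rw [hu]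
        show Ideal.Quotient.mk T k = _
        rw [map_sub, Ideal.Quotient.eq_zero_iff_mem.2 ht, sub_zero]
      rw [hk']
      clear hu hk'
      induction u with
      | zero => simp
      | add a b ha hb => rw [map_add, map_add, TensorProduct.add_tmul, ha, hb, add_zero]
      | tmul b i =>
        rw [mul_tmul, show Ideal.Quotient.mk T (b * algebraMap A' B' i) = (i : A') • Ideal.Quotient.mk T b by
          rw [Algebra.smul_def, map_mul, mul_comm]; rfl, TensorProduct.smul_tmul,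
          show (i : A') • j = 0 from Subtype.ext (Ideal.mem_bot.1 (hJ ▸ Ideal.mul_mem_mul i.2 j.2)),
          TensorProduct.tmul_zero]
  rw [hv', this, map_zero]

/-- A flat lift can be translated by a homomorphism. -/
theorem existsUnique_translate (hJ : J * J = ⊥) [Module.Flat A' B']
    [Module.Flat (A' ⧸ J) ((B' ⧸ J.map (algebraMap A' B')) ⧸ I)] (I' : Ideal B') [Module.Flat A' (B' ⧸ I')]
    (hI' : I'.map (Ideal.Quotient.mk (J.map (algebraMap A' B'))) = I)
    (φ : ↥I →ₗ[B'] (((B' ⧸ J.map (algebraMap A' B')) ⧸ I) ⊗[A'] ↥J)) :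
    ∃! I'' : Ideal B', Module.Flat A' (B' ⧸ I'') ∧
      I''.map (Ideal.Quotient.mk (J.map (algebraMap A' B'))) = I ∧
      ∀ (x : (B' ⧸ J.map (algebraMap A' B'))) (hx : x ∈ I) (x' x'' : B'), x' ∈ I' → x'' ∈ I'' →
          Ideal.Quotient.mk (J.map (algebraMap A' B')) x' = x → Ideal.Quotient.mk (J.map (algebraMap A' B')) x'' = x →
          ∀ z : B' ⊗[A'] ↥J, mul J B' z = x'' - x' → red I z = φ ⟨x, hx⟩ := by
  have hs := Ideal.Quotient.mk_surjective (I := J.map (algebraMap A' B'))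
  have hmk : ∀ w : B' ⊗[A'] ↥J, Ideal.Quotient.mk (J.map (algebraMap A' B')) (mul J B' w) = 0 := fun w =>
    Ideal.Quotient.eq_zero_iff_mem.2 (range_mul.le (LinearMap.mem_range_self _ w))
  let T : Ideal B' :=
    { carrier := {y | ∃ (x : I) (x' : B') (z : B' ⊗[A'] ↥J), x' ∈ I' ∧
        Ideal.Quotient.mk (J.map (algebraMap A' B')) x' = x.1 ∧ red I z = φ x ∧ y = x' + mul J B' z}
      add_mem' := by
        rintro _ _ ⟨x, x', z, h1, h2, h3, rfl⟩ ⟨y, y', w, g1, g2, g3, rfl⟩
        exact ⟨x + y, x' + y', z + w, add_mem h1 g1, by rw [map_add, h2, g2]; rfl, by rw [map_add, map_add, h3, g3],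
          by rw [map_add]; ring⟩
      zero_mem' := ⟨0, 0, 0, zero_mem _, map_zero _, by rw [map_zero, map_zero], by simp⟩
      smul_mem' := by
        rintro r _ ⟨x, x', z, h1, h2, h3, rfl⟩
        exact ⟨r • x, r * x', r • z, I'.mul_mem_left _ h1, by rw [map_mul, h2]; rfl, by rw [map_smul, map_smul, h3],
          by rw [map_smul, smul_eq_mul, smul_eq_mul]; ring⟩ }
  have hmem : ∀ x : I, ∃ y ∈ T, Ideal.Quotient.mk (J.map (algebraMap A' B')) y = x.1 := by
    intro x
    obtain ⟨x', h', e'⟩ := (Ideal.mem_map_iff_of_surjective _ hs).1 (hI'.ge x.2)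
    obtain ⟨z, hz⟩ := red_surjective I (φ x)
    exact ⟨x' + mul J B' z, ⟨x, x', z, h', e', hz, rfl⟩, by rw [map_add, hmk, add_zero, e']⟩
  have hmap : T.map (Ideal.Quotient.mk (J.map (algebraMap A' B'))) = I := by
    refine le_antisymm (Ideal.map_le_iff_le_comap.2 ?_) fun x hx => ?_
    · rintro _ ⟨x, x', z, -, e', -, rfl⟩
      rw [Ideal.mem_comap, map_add, hmk, add_zero, e']
      exact x.2
    · obtain ⟨y, hy, e⟩ := hmem ⟨x, hx⟩
      exact (Ideal.mem_map_iff_of_surjective _ hs).2 ⟨y, hy, e⟩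
  have hcond : ∀ (x : (B' ⧸ J.map (algebraMap A' B'))) (hx : x ∈ I) (x' x'' : B'), x' ∈ I' → x'' ∈ T →
      Ideal.Quotient.mk (J.map (algebraMap A' B')) x' = x → Ideal.Quotient.mk (J.map (algebraMap A' B')) x'' = x →
      ∀ z : B' ⊗[A'] ↥J, mul J B' z = x'' - x' → red I z = φ ⟨x, hx⟩ := by
    rintro x hx x' _ h' ⟨y, y', w, g1, g2, g3, rfl⟩ e' e'' z hz
    have hy : y = ⟨x, hx⟩ := Subtype.ext (by rw [map_add, hmk, add_zero, g2] at e''; exact e'')
    have h0 : red I (z - w) = 0 := red_of_mul_mem hI' (by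
      rw [map_sub, hz, show y' + mul J B' w - x' - mul J B' w = y' - x' by ring]
      exact sub_mem g1 h')
    rw [map_sub, sub_eq_zero] at h0
    rw [h0, g3, hy]
  -- multiplication by `J` of the preimage of `I` lands in every lift
  have hKJ : ∀ (I₂ : Ideal B'), I₂.map (Ideal.Quotient.mk (J.map (algebraMap A' B'))) = I →
      ∀ (k : B'), Ideal.Quotient.mk (J.map (algebraMap A' B')) k ∈ I → ∀ j : J,
        k * algebraMap A' B' j ∈ I₂ := by
    intro I₂ hI₂ k hk j
    obtain ⟨i, hi, ei⟩ := (Ideal.mem_map_iff_of_surjective _ hs).1 (hI₂.ge hk)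
    have hz : (k - i) * algebraMap A' B' j ∈ J.map (algebraMap A' B') * J.map (algebraMap A' B') :=
      Ideal.mul_mem_mul (Ideal.Quotient.eq.1 ei.symm) (Ideal.mem_map_of_mem _ j.2)
    rw [← Ideal.map_mul, hJ, Ideal.map_bot, Ideal.mem_bot, sub_mul, sub_eq_zero] at hz
    rw [hz]
    exact I₂.mul_mem_right _ hi
  have hker : ∀ (I₂ : Ideal B'), I₂.map (Ideal.Quotient.mk (J.map (algebraMap A' B'))) = I →
      ∀ z, red I z = 0 → mul J B' z ∈ I₂ := by
    intro I₂ hI₂ z hz
    obtain ⟨w, rfl⟩ := exists_ker z hz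
    clear hz
    induction w with
    | zero => simp
    | add a b ha hb => rw [map_add, map_add]; exact add_mem ha hb
    | tmul k j =>
      show mul J B' (k.1 ⊗ₜ j) ∈ I₂
      rw [mul_tmul]
      exact hKJ I₂ hI₂ k.1 k.2 j
  have hzero : ∀ z : B' ⊗[A'] ↥J, mul J B' z ∈ T → red I z = 0 := by
    rintro z ⟨x, x', w, h1, h2, h3, h4⟩
    have hx : x = 0 := Subtype.ext (by
      rw [← h2, show x' = mul J B' (z - w) by rw [map_sub, h4]; ring, hmk]; rfl)
    have h0 : red I (z - w) = 0 := red_of_mul_mem hI' (by rw [map_sub, h4, add_sub_cancel_right]; exact h1)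
    rwa [map_sub, h3, hx, map_zero, sub_zero] at h0
  have hT : Module.Flat A' (B' ⧸ T) := by
    have : Module.Flat (A' ⧸ J) ((A' ⧸ J) ⊗[A'] (B' ⧸ T)) := flat_red hJ hmap
    exact CAlgLow.flat_of_flat_mod_nilpotent ⟨2, by rw [sq]; exact hJ⟩ (injective_rTensor hJ hmap hzero)
  refine ⟨T, ⟨hT, hmap, hcond⟩, fun I₂ ⟨_, hI₂, hc₂⟩ => le_antisymm (fun y hy => ?_) ?_⟩
  · have hyI : Ideal.Quotient.mk (J.map (algebraMap A' B')) y ∈ I := hI₂ ▸ Ideal.mem_map_of_mem _ hy
    obtain ⟨x', h', e'⟩ := (Ideal.mem_map_iff_of_surjective _ hs).1 (hI'.ge hyI)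
    obtain ⟨z, hz⟩ : y - x' ∈ LinearMap.range (mul J B') := by
      rw [range_mul]; exact Ideal.Quotient.eq.1 e'.symm
    exact ⟨⟨_, hyI⟩, x', z, h', e', hc₂ _ hyI x' y h' hy e' rfl z hz, by rw [hz]; ring⟩
  · rintro _ ⟨x, x', z, h1, h2, h3, rfl⟩
    obtain ⟨y, hy, ey⟩ := (Ideal.mem_map_iff_of_surjective _ hs).1 (hI₂.ge x.2)
    obtain ⟨w, hw⟩ : y - x' ∈ LinearMap.range (mul J B') := by
      rw [range_mul]; exact Ideal.Quotient.eq.1 (ey.trans h2.symm)
    have h0 : mul J B' (z - w) ∈ I₂ := hker I₂ hI₂ _ (by rw [map_sub, h3, hc₂ _ x.2 x' y h1 hy h2 ey w hw, sub_self])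
    rw [show x' + mul J B' z = mul J B' (z - w) + y by rw [map_sub, hw]; ring]
    exact add_mem h0 hy

end Groth.Agent.SqZeroEmb3
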